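import Mathlib.AlgebraicGeometry.Morphisms.FormallyUnramified
import Mathlib.AlgebraicGeometry.Morphisms.Immersion
import Mathlib.AlgebraicGeometry.Noetherian
import Mathlib.RingTheory.Ideal.IdempotentFG
import Mathlib.RingTheory.Ideal.Quotient.PowTransition

/-!
# The equality locus of two maps to a formally unramified scheme is open on a locally noetherian scheme
-/

set_option autoImplicit false
set_option linter.style.haveILetI false

universe u

open CategoryTheory CategoryTheory.Limits AlgebraicGeometry TopologicalSpace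

namespace Groth.Agent.EtQuot

/-- The closed immersion cut out by a nilpotent ideal has nilpotent kernel. -/
theorem isNilpotent_ker_SpecMap {A B : CommRingCat.{u}} (φ : A ⟶ B) (hφ : Function.Surjective φ)
    (h : IsNilpotent (RingHom.ker φ.hom)) : IsNilpotent (Spec.map φ).ker := by
  haveI := IsClosedImmersion.spec_of_surjective φ hφ
  obtain ⟨n, hn⟩ := h
  refine ⟨n, Scheme.IdealSheafData.ext_of_isAffine ?_⟩
  rw [Scheme.IdealSheafData.ideal_pow, Pi.pow_apply, Scheme.Hom.ker_apply]
  show RingHom.ker (Spec.map φ).appTop.hom ^ n = _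
  have e : RingHom.ker (Spec.map φ).appTop.hom = (RingHom.ker φ.hom).comap (Scheme.ΓSpecIso A).hom.hom := by
    ext z
    rw [RingHom.mem_ker, Ideal.mem_comap, RingHom.mem_ker, ← CommRingCat.comp_apply, ← Scheme.ΓSpecIso_naturality,
      CommRingCat.comp_apply]
    exact (map_eq_zero_iff _ (ConcreteCategory.bijective_of_isIso (Scheme.ΓSpecIso B).hom).injective).symm
  have he : Function.Bijective (Scheme.ΓSpecIso A).hom.hom := ConcreteCategory.bijective_of_isIso (Scheme.ΓSpecIso A).hom
  rw [e]
  refine eq_bot_iff.2 ?_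
  refine (Ideal.map_le_iff_le_comap.1 ?_).trans ((RingHom.ker_eq_comap_bot _).symm.trans
    ((RingHom.injective_iff_ker_eq_bot _).1 he.injective)).le
  rw [Ideal.map_pow, Ideal.map_comap_of_surjective _ he.surjective, hn]
  exact le_rfl

variable {Z Y S K : Scheme.{u}} (b : Y ⟶ S) [FormallyUnramified b] [IsLocallyNoetherian Z]
  {t : Z ⟶ pullback b b} {j : K ⟶ Z} {k : K ⟶ Y}

/-- The equality locus of two maps to a formally unramified scheme is open. -/
theorem isOpenImmersion_of_isPullback_diagonal (sq : IsPullback j k t (pullback.diagonal b)) : IsOpenImmersion j := by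
  haveI : IsImmersion j :=
    MorphismProperty.IsStableUnderBaseChange.of_isPullback (P := @IsImmersion) sq.flip inferInstance
  rw [← j.liftCoborder_ι]
  suffices IsOpenImmersion j.liftCoborder by infer_instance
  haveI : IsLocallyNoetherian j.coborderRange.toScheme := isLocallyNoetherian_of_isOpenImmersion j.coborderRange.ι
  let i := j.liftCoborder
  have hi : i ≫ j.coborderRange.ι = j := j.liftCoborder_ι
  rw [IsZariskiLocalAtTarget.iff_of_openCover (P := @IsOpenImmersion) j.coborderRange.toScheme.affineCover]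
  suffices key : ∀ (A : CommRingCat.{u}) (a : Spec A ⟶ j.coborderRange.toScheme), IsOpenImmersion a →
      IsOpenImmersion (pullback.snd i a) from fun n => key _ _ (j.coborderRange.toScheme.affineCover.map_prop n)
  intro A a _
  haveI : IsClosedImmersion (pullback.snd i a) :=
    MorphismProperty.IsStableUnderBaseChange.of_isPullback (P := @IsClosedImmersion) (IsPullback.of_hasPullback i a)
      inferInstance
  obtain ⟨J, e, he⟩ := IsClosedImmersion.Spec_iff.1 ‹IsClosedImmersion (pullback.snd i a)›
  rw [he]
  suffices IsOpenImmersion (Spec.map (CommRingCat.ofHom (Ideal.Quotient.mk J))) by infer_instance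
  haveI : IsNoetherianRing A := by
    haveI := isLocallyNoetherian_of_isOpenImmersion a
    haveI : IsNoetherianRing Γ(Spec A, ⊤) := IsLocallyNoetherian.component_noetherian ⟨⊤, isAffineOpen_top _⟩
    exact isNoetherianRing_of_ringEquiv _ (Scheme.ΓSpecIso A).commRingCatIsoToRingEquiv
  -- the two maps agree modulo the square of the ideal
  let π := CommRingCat.ofHom (Ideal.Quotient.mk (J ^ 2))
  have hle : J ^ 2 ≤ J := Ideal.pow_le_self two_ne_zero
  let φ := CommRingCat.ofHom (Ideal.Quotient.factor hle)
  have hφs : Function.Surjective φ := Ideal.Quotient.factor_surjective hle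
  have hφk : IsNilpotent (RingHom.ker φ.hom) := ⟨2, by
    rw [show RingHom.ker φ.hom = J.map (Ideal.Quotient.mk (J ^ 2)) from Ideal.Quotient.factor_ker hle,
      ← Ideal.map_pow, Ideal.map_quotient_self]
    rfl⟩
  haveI := IsClosedImmersion.spec_of_surjective φ hφs
  have hfac : Spec.map (CommRingCat.ofHom (Ideal.Quotient.mk J)) ≫ a ≫ j.coborderRange.ι =
      (e.inv ≫ pullback.fst i a) ≫ j := by
    have h1 : e.inv ≫ pullback.snd i a = Spec.map (CommRingCat.ofHom (Ideal.Quotient.mk J)) := by
      rw [he, Iso.inv_hom_id_assoc]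
    rw [← h1, Category.assoc, ← pullback.condition_assoc, hi, Category.assoc]
  have hmk : Spec.map φ ≫ Spec.map π = Spec.map (CommRingCat.ofHom (Ideal.Quotient.mk J)) := by
    rw [← Spec.map_comp, ← CommRingCat.ofHom_comp, Ideal.Quotient.factor_comp_mk]
  let w := Spec.map π ≫ a ≫ j.coborderRange.ι
  have hw : w ≫ t ≫ pullback.fst b b = w ≫ t ≫ pullback.snd b b := by
    refine FormallyUnramified.hom_ext (Spec.map φ) (isNilpotent_ker_SpecMap φ hφs hφk) b ?_ ?_
    · simp only [w, Category.assoc, reassoc_of% hmk, reassoc_of% hfac, reassoc_of% sq.w, pullback.diagonal_fst,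
        pullback.diagonal_snd]
    · simp only [Category.assoc, pullback.condition]
  let l := sq.lift w (w ≫ t ≫ pullback.fst b b) (pullback.hom_ext
    (by simp only [Category.assoc, pullback.diagonal_fst, Category.comp_id])
    (by simp only [Category.assoc, pullback.diagonal_snd, Category.comp_id]; exact hw.symm))
  have hl : l ≫ i = Spec.map π ≫ a := by
    rw [← cancel_mono j.coborderRange.ι, Category.assoc, hi, sq.lift_fst, Category.assoc]
  let m := pullback.lift l (Spec.map π) hl
  have hm : (m ≫ e.hom) ≫ Spec.map (CommRingCat.ofHom (Ideal.Quotient.mk J)) = Spec.map π := by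
    rw [Category.assoc, ← he]; exact pullback.lift_snd _ _ _
  obtain ⟨ψ, hψ⟩ := Spec.map_surjective (R := CommRingCat.of (A ⧸ J)) (S := CommRingCat.of (A ⧸ J ^ 2)) (m ≫ e.hom)
  rw [← hψ, ← Spec.map_comp] at hm
  have hJ : J ≤ J ^ 2 := fun r hr => by
    have h2 := congrArg (fun f : A ⟶ CommRingCat.of (A ⧸ J ^ 2) => f r) (Spec.map_injective hm)
    refine Ideal.Quotient.eq_zero_iff_mem.1 ((h2.symm.trans ?_))
    show ψ.hom (Ideal.Quotient.mk J r) = 0
    rw [Ideal.Quotient.eq_zero_iff_mem.2 hr, map_zero]
  obtain ⟨ε, hε, hJε⟩ := (J.isIdempotentElem_iff_of_fg (IsNoetherian.noetherian J)).1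
    (le_antisymm Ideal.mul_le_left (hJ.trans_eq (pow_two J)))
  haveI : IsLocalization.Away (1 - ε) (A ⧸ J) := by
    rw [hJε]
    exact IsLocalization.away_of_isIdempotentElem hε.one_sub (by
      rw [Ideal.Quotient.algebraMap_eq, Ideal.mk_ker, sub_sub_cancel]) Ideal.Quotient.mk_surjective
  exact IsOpenImmersion.of_isLocalization (1 - ε)

/-- The maximal subscheme where two maps over `S` agree, as an open. -/
theorem exists_opens_eqLocus (p q : Z ⟶ Y) (h : p ≫ b = q ≫ b) :
    ∃ U : Z.Opens, U.ι ≫ p = U.ι ≫ q ∧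
      ∀ {T : Scheme.{u}} (x : T ⟶ Z), x ≫ p = x ≫ q → Set.range x.base ⊆ U := by
  let t := pullback.lift p q h
  let j := pullback.fst t (pullback.diagonal b)
  have sq : IsPullback j (pullback.snd t (pullback.diagonal b)) t (pullback.diagonal b) := IsPullback.of_hasPullback _ _
  haveI := isOpenImmersion_of_isPullback_diagonal b sq
  refine ⟨j.opensRange, ?_, fun {T} x hx => ?_⟩
  · rw [← cancel_epi j.isoOpensRange.hom, Scheme.Hom.isoOpensRange_hom_ι_assoc, Scheme.Hom.isoOpensRange_hom_ι_assoc]
    calc j ≫ p = j ≫ t ≫ pullback.fst b b := by rw [pullback.lift_fst]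
      _ = j ≫ t ≫ pullback.snd b b := by rw [sq.w_assoc, sq.w_assoc, pullback.diagonal_fst, pullback.diagonal_snd]
      _ = j ≫ q := by rw [pullback.lift_snd]
  · let l := pullback.lift x (x ≫ p) (show x ≫ t = (x ≫ p) ≫ pullback.diagonal b from pullback.hom_ext
      (by rw [Category.assoc, pullback.lift_fst, Category.assoc, pullback.diagonal_fst, Category.comp_id])
      (by rw [Category.assoc, pullback.lift_snd, Category.assoc, pullback.diagonal_snd, Category.comp_id, hx]))
    rintro _ ⟨z, rfl⟩
    exact ⟨l z, by rw [← Scheme.Hom.comp_apply, pullback.lift_fst]⟩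

end Groth.Agent.EtQuot
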