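import Groth.Agent.EtQuot.Quot
import Groth.Agent.S5075
import Mathlib.AlgebraicGeometry.Sites.Fpqc

/-!
# Factorisations through the etale image
-/

set_option autoImplicit false
set_option linter.style.haveILetI false

universe u

open CategoryTheory CategoryTheory.Limits AlgebraicGeometry

namespace Groth.Agent.EtQuot

variable {X Y S : Scheme.{u}}

/-- A monomorphism to a formally unramified scheme with etale composite is formally etale on affine opens. -/
theorem formallyEtale_appLE {E : Scheme.{u}} (m : E ⟶ Y) [Mono m] (b : Y ⟶ S) [FormallyUnramified b] [Etale (m ≫ b)]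
    {V : Y.Opens} (hV : IsAffineOpen V) {U : E.Opens} (hU : IsAffineOpen U) (e : U ≤ m ⁻¹ᵁ V) :
    (m.appLE V U e).hom.FormallyEtale := by
  algebraize [(m.appLE V U e).hom]
  show Algebra.FormallyEtale Γ(Y, V) Γ(E, U)
  have halg : ∀ {B : Type u} [CommRing B] [Algebra Γ(Y, V) B] (g : Γ(E, U) →ₐ[Γ(Y, V)] B),
      Spec.map (CommRingCat.ofHom g.toRingHom) ≫ hU.fromSpec ≫ m =
        Spec.map (CommRingCat.ofHom (algebraMap Γ(Y, V) B)) ≫ hV.fromSpec := fun {B} _ _ g => by
    rw [← hV.SpecMap_appLE_fromSpec m hU e, ← Spec.map_comp_assoc]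
    congr 2
    exact CommRingCat.hom_ext g.comp_algebraMap
  rw [Algebra.FormallyEtale.iff_comp_bijective]
  intro B _ _ I hI
  refine ⟨fun g₁ g₂ _ => ?_, fun g₀ => ?_⟩
  · have h := (halg g₁).trans (halg g₂).symm
    rw [← Category.assoc, ← Category.assoc, cancel_mono m, cancel_mono hU.fromSpec, Spec.map_inj] at h
    exact AlgHom.ext fun x => congr($h x)
  · let φ := CommRingCat.ofHom (Ideal.Quotient.mk I)
    let c := Spec.map (CommRingCat.ofHom (algebraMap Γ(Y, V) B)) ≫ hV.fromSpec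
    let f₀ := Spec.map (CommRingCat.ofHom g₀.toRingHom) ≫ hU.fromSpec
    haveI : IsClosedImmersion (Spec.map φ) := IsClosedImmersion.spec_of_surjective φ Ideal.Quotient.mk_surjective
    have hker : IsNilpotent (RingHom.ker φ.hom) :=
      ⟨2, by rw [show RingHom.ker φ.hom = I from Ideal.mk_ker, hI]; rfl⟩
    haveI : Surjective (Spec.map φ) := ⟨fun p => by
      have hp : I ≤ p.asIdeal := fun x hx => p.2.mem_of_pow_mem 2
        (by rw [show x ^ 2 = 0 from Ideal.mem_bot.1 (hI ▸ Ideal.pow_mem_pow hx 2)]; exact Ideal.zero_mem _)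
      exact (range_comap_of_surjective _ _ Ideal.Quotient.mk_surjective).ge
        (by rw [Ideal.mk_ker]; exact hp)⟩
    have h₀ : f₀ ≫ m = Spec.map φ ≫ c := by
      rw [Category.assoc, halg g₀, ← Spec.map_comp_assoc]
      rfl
    obtain ⟨f, ⟨hf1, hf2⟩, -⟩ := S5075.result (m ≫ b) (c ≫ b) (Spec.map φ) f₀
      (by rw [← Category.assoc, h₀, Category.assoc])
    have hfm : f ≫ m = c := FormallyUnramified.hom_ext (Spec.map φ)
      (isNilpotent_ker_SpecMap φ Ideal.Quotient.mk_surjective hker) b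
      (by rw [← Category.assoc, hf2, h₀]) (by rw [Category.assoc, hf1])
    have hrange : Set.range f.base ⊆ Set.range hU.fromSpec.base := by
      rintro _ ⟨z, rfl⟩
      obtain ⟨z, rfl⟩ := (Spec.map φ).surjective z
      rw [← Scheme.Hom.comp_apply, hf2]
      exact ⟨_, rfl⟩
    obtain ⟨ψ, hψ⟩ := Spec.map_surjective (IsOpenImmersion.lift hU.fromSpec f hrange)
    have hψf : Spec.map ψ ≫ hU.fromSpec = f := by rw [hψ, IsOpenImmersion.lift_fac]
    have hcomm : m.appLE V U e ≫ ψ = CommRingCat.ofHom (algebraMap Γ(Y, V) B) := by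
      apply Spec.map_injective
      rw [← cancel_mono hV.fromSpec, Spec.map_comp, Category.assoc, hV.SpecMap_appLE_fromSpec m hU e,
        ← Category.assoc, hψf, hfm]
    refine ⟨{ ψ.hom with commutes' := fun r => congr($hcomm r) }, AlgHom.ext fun x => ?_⟩
    have h2 : ψ ≫ φ = CommRingCat.ofHom g₀.toRingHom := by
      apply Spec.map_injective
      rw [← cancel_mono hU.fromSpec, Spec.map_comp, Category.assoc, hψf, hf2]
    exact congr($h2 x)

/-- Maps out of a faithfully flat cover are determined by their composite with a monomorphism. -/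
theorem existsUnique_map {E E' : Scheme.{u}} (u : X ⟶ E) [Flat u] [Surjective u] [LocallyOfFinitePresentation u]
    (m : E ⟶ Y) (u' : X ⟶ E') (m' : E' ⟶ Y) [Mono m'] (w : u ≫ m = u' ≫ m') :
    ∃! i : E ⟶ E', u ≫ i = u' ∧ i ≫ m' = m := by
  have hker : ∀ {Z : Scheme.{u}} (g₁ g₂ : Z ⟶ X), g₁ ≫ u = g₂ ≫ u → g₁ ≫ u' = g₂ ≫ u' := fun g₁ g₂ h =>
    (cancel_mono m').1 (by rw [Category.assoc, Category.assoc, ← w, reassoc_of% h])
  refine ⟨EffectiveEpi.desc u u' hker, ⟨EffectiveEpi.fac u u' hker, ?_⟩, fun i hi => ?_⟩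
  · rw [← cancel_epi u, ← Category.assoc, EffectiveEpi.fac, ← w]
  · rw [← cancel_epi u, EffectiveEpi.fac]
    exact hi.1

/-- The etale image, with finiteness. -/
theorem exists_image_noetherian [IsNoetherian S] (a : X ⟶ S) [Flat a] [LocallyOfFinitePresentation a] [QuasiCompact a]
    (b : Y ⟶ S) [FormallyUnramified b] (h : X ⟶ Y) (w : h ≫ b = a) :
    ∃ (E : Scheme.{u}) (u : X ⟶ E) (m : E ⟶ Y), u ≫ m = h ∧ Mono m ∧ LocallyOfFiniteType m ∧ Etale (m ≫ b) ∧
      Flat u ∧ Surjective u ∧ LocallyOfFinitePresentation u ∧ QuasiCompact u ∧ QuasiSeparated u ∧ QuasiCompact m ∧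
      QuasiCompact (m ≫ b) ∧ QuasiSeparated (m ≫ b) := by
  obtain ⟨E, u, m, hum, hm, hm', het, hfl, hsur, hlfp⟩ := exists_image a b h w
  haveI : CompactSpace X := QuasiCompact.compactSpace_of_compactSpace a
  haveI : IsLocallyNoetherian X := LocallyOfFiniteType.isLocallyNoetherian a
  haveI : IsNoetherian X := ⟨⟩
  haveI : IsLocallyNoetherian E := LocallyOfFiniteType.isLocallyNoetherian (m ≫ b)
  haveI : CompactSpace E := ⟨by
    rw [← Set.range_eq_univ.2 u.surjective]
    exact isCompact_range u.continuous⟩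
  haveI : IsNoetherian E := ⟨⟩
  exact ⟨E, u, m, hum, hm, hm', het, hfl, hsur, hlfp, inferInstance, inferInstance, inferInstance, inferInstance,
    inferInstance⟩

end Groth.Agent.EtQuot
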