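import Groth.Agent.EtQuot.Factor

/-!
# An initial etale factorisation is initial among formally unramified schemes
-/

set_option autoImplicit false
set_option linter.style.haveILetI false

universe u

open CategoryTheory CategoryTheory.Limits AlgebraicGeometry

namespace Groth.Agent.EtQuot

theorem existsUnique_lift {X P S : Scheme.{u}} [IsNoetherian S] (a : X ⟶ S) [Flat a] [LocallyOfFinitePresentation a]
    [QuasiCompact a] (c : P ⟶ S) [Etale c] [QuasiCompact c] [QuasiSeparated c] (ϖ : X ⟶ P) (hϖ : ϖ ≫ c = a)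
    (hinit : ∀ (E : Scheme.{u}) (e : E ⟶ S), Etale e → QuasiCompact e → QuasiSeparated e →
      ∀ k : X ⟶ E, k ≫ e = a → ∃! l : P ⟶ E, ϖ ≫ l = k ∧ l ≫ e = c)
    (Y : Scheme.{u}) (b : Y ⟶ S) [FormallyUnramified b] (k : X ⟶ Y) (hk : k ≫ b = a) :
    ∃! l : P ⟶ Y, ϖ ≫ l = k ∧ l ≫ b = c := by
  obtain ⟨E, u, m, hum, -, -, het, -, -, -, -, -, -, hqc, hqs⟩ := exists_image_noetherian a b k hk
  obtain ⟨l₀, ⟨h1, h2⟩, -⟩ := hinit E (m ≫ b) het hqc hqs u (by rw [← Category.assoc, hum, hk])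
  refine ⟨l₀ ≫ m, ⟨by rw [← Category.assoc, h1, hum], by rw [Category.assoc, h2]⟩, fun l hl => ?_⟩
  haveI : CompactSpace P := QuasiCompact.compactSpace_of_compactSpace c
  haveI : IsLocallyNoetherian P := LocallyOfFiniteType.isLocallyNoetherian c
  haveI : IsNoetherian P := ⟨⟩
  obtain ⟨U, hU, hUmax⟩ := exists_opens_eqLocus b l (l₀ ≫ m) (by rw [hl.2, Category.assoc, h2])
  have hϖU : Set.range ϖ.base ⊆ Set.range U.ι.base := by
    rw [Scheme.Opens.range_ι]
    exact hUmax ϖ (by rw [hl.1, ← Category.assoc, h1, hum])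
  haveI : IsLocallyNoetherian (U : Scheme.{u}) := isLocallyNoetherian_of_isOpenImmersion U.ι
  haveI : CompactSpace ↥U.toScheme := isCompact_iff_compactSpace.1 (TopologicalSpace.NoetherianSpace.isCompact (U : Set P))
  haveI : IsNoetherian U.toScheme := ⟨⟩
  obtain ⟨i, ⟨hi1, hi2⟩, -⟩ := hinit U.toScheme (U.ι ≫ c) inferInstance inferInstance inferInstance
    (IsOpenImmersion.lift U.ι ϖ hϖU) (by rw [IsOpenImmersion.lift_fac_assoc, hϖ])
  obtain ⟨j, -, huniq⟩ := hinit P c ‹_› ‹_› ‹_› ϖ hϖ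
  have hid : i ≫ U.ι = 𝟙 P :=
    (huniq _ ⟨by rw [← Category.assoc, hi1, IsOpenImmersion.lift_fac], by rw [Category.assoc, hi2]⟩).trans
      (huniq _ ⟨Category.comp_id _, Category.id_comp _⟩).symm
  calc l = i ≫ U.ι ≫ l := by rw [← Category.assoc, hid, Category.id_comp]
    _ = i ≫ U.ι ≫ (l₀ ≫ m) := by rw [hU]
    _ = l₀ ≫ m := by rw [← Category.assoc, hid, Category.id_comp]

end Groth.Agent.EtQuot
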