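import Groth.Agent.EtQuot.EqLocus
import Groth.Agent.AlgSpDec.LqfScheme
import Groth.Agent.AlgSpDec.LqfQuot
import Groth.Agent.SrcDescent.SchemeFppf
import Groth.Agent.GrpSchLib.RankOneBig
import Mathlib.AlgebraicGeometry.Morphisms.Etale

/-!
# The etale image of a morphism to a formally unramified scheme
-/

set_option autoImplicit false
set_option linter.style.haveILetI false
set_option backward.isDefEq.respectTransparency false
set_option backward.isDefEq.respectTransparency.types false
set_option maxHeartbeats 1600000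

universe u

open CategoryTheory CategoryTheory.Limits AlgebraicGeometry AlgSp Groth.Agent.AlgSpLib Groth.Agent.AlgSpPts
  Groth.Agent.AlgSpDec

namespace Groth.Agent.EtQuot

variable {X Y S : Scheme.{u}}

/-- A flat lfp morphism to a formally unramified scheme over a locally noetherian scheme has open kernel pair. -/
theorem isOpenImmersion_map {A B : Scheme.{u}} (b : Y ⟶ S) [FormallyUnramified b] (f : A ⟶ Y) (g : B ⟶ Y)
    [IsLocallyNoetherian (pullback (f ≫ b) (g ≫ b))] :
    IsOpenImmersion (pullback.map f g (f ≫ b) (g ≫ b) (𝟙 A) (𝟙 B) b (by simp) (by simp)) :=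
  isOpenImmersion_of_isPullback_diagonal b (pullback_map_diagonal_isPullback f g b).flip

theorem isLocallyNoetherian_pullback {A B : Scheme.{u}} [IsLocallyNoetherian S] (f : A ⟶ S) (g : B ⟶ S)
    [LocallyOfFiniteType f] [LocallyOfFiniteType g] : IsLocallyNoetherian (pullback f g) := by
  haveI : LocallyOfFiniteType (pullback.snd f g) :=
    MorphismProperty.IsStableUnderBaseChange.of_isPullback (P := @LocallyOfFiniteType) (IsPullback.of_hasPullback _ _) ‹_›
  exact LocallyOfFiniteType.isLocallyNoetherian (pullback.snd f g ≫ g)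

/-- The image of `X` in a formally unramified `S`-scheme. -/
theorem exists_image [IsLocallyNoetherian S] (a : X ⟶ S) [Flat a] [LocallyOfFinitePresentation a]
    (b : Y ⟶ S) [FormallyUnramified b] (h : X ⟶ Y) (w : h ≫ b = a) :
    ∃ (E : Scheme.{u}) (u : X ⟶ E) (m : E ⟶ Y), u ≫ m = h ∧ Mono m ∧ LocallyOfFiniteType m ∧ Etale (m ≫ b) ∧
      Flat u ∧ Surjective u ∧ LocallyOfFinitePresentation u := by
  subst w
  haveI := isLocallyNoetherian_pullback (S := S) (h ≫ b) (h ≫ b)
  haveI := isOpenImmersion_map b h h
  let U : Over Y := Over.mk h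
  let T : Over Y := Over.mk (𝟙 Y)
  let π : U ⟶ T := Over.homMk h (Category.comp_id _)
  let R : Over Y := Over.mk (pullback.fst h h ≫ h)
  let t : R ⟶ U := Over.homMk (pullback.fst h h) rfl
  let s : R ⟶ U := Over.homMk (pullback.snd h h) pullback.condition.symm
  have sqO : IsPullback t s π π := IsPullback.of_map (Over.forget Y)
    (Over.OverMorphism.ext pullback.condition) (IsPullback.of_hasPullback h h)
  let p := Sheaf.toImage ((yon Y).map π)
  let ι := Sheaf.imageι ((yon Y).map π)
  have hpι : p ≫ ι = (yon Y).map π := Sheaf.toImage_ι _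
  have sq : IsPullback ((yon Y).map t) ((yon Y).map s) p p := by
    have h1 := sqO.map (yon Y)
    rw [← hpι] at h1
    have hw : (yon Y).map t ≫ p = (yon Y).map s ≫ p := (cancel_mono ι).1 (by simpa using h1.w)
    exact ⟨⟨hw⟩, ⟨PullbackCone.IsLimit.mk _ (fun c => h1.lift c.fst c.snd (by rw [reassoc_of% c.condition]))
      (fun c => h1.lift_fst _ _ _) (fun c => h1.lift_snd _ _ _)
      (fun c m h₁ h₂ => h1.hom_ext (by rw [h₁, h1.lift_fst]) (by rw [h₂, h1.lift_snd]))⟩⟩
  have ht : t.left = pullback.map h h (h ≫ b) (h ≫ b) (𝟙 X) (𝟙 X) b (by simp) (by simp) ≫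
      pullback.fst (h ≫ b) (h ≫ b) := by
    rw [pullback.lift_fst, Category.comp_id]; rfl
  have hs : s.left = pullback.map h h (h ≫ b) (h ≫ b) (𝟙 X) (𝟙 X) b (by simp) (by simp) ≫
      pullback.snd (h ≫ b) (h ≫ b) := by
    rw [pullback.lift_snd, Category.comp_id]; rfl
  haveI : Flat (pullback.fst (h ≫ b) (h ≫ b)) :=
    MorphismProperty.IsStableUnderBaseChange.of_isPullback (P := @Flat) (IsPullback.of_hasPullback _ _).flip ‹_›
  haveI : Flat (pullback.snd (h ≫ b) (h ≫ b)) :=
    MorphismProperty.IsStableUnderBaseChange.of_isPullback (P := @Flat) (IsPullback.of_hasPullback _ _) ‹_›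
  haveI : LocallyOfFinitePresentation (pullback.fst (h ≫ b) (h ≫ b)) :=
    MorphismProperty.IsStableUnderBaseChange.of_isPullback (P := @LocallyOfFinitePresentation)
      (IsPullback.of_hasPullback _ _).flip ‹_›
  haveI : LocallyOfFinitePresentation (pullback.snd (h ≫ b) (h ≫ b)) :=
    MorphismProperty.IsStableUnderBaseChange.of_isPullback (P := @LocallyOfFinitePresentation)
      (IsPullback.of_hasPullback _ _) ‹_›
  haveI : Flat t.left := by rw [ht]; infer_instance
  haveI : Flat s.left := by rw [hs]; infer_instance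
  haveI : LocallyOfFinitePresentation t.left := by rw [ht]; infer_instance
  haveI : LocallyOfFinitePresentation s.left := by rw [hs]; infer_instance
  have hF := isAlgSpace_of_flat_kernelPair sq
  have hr : Representable p := representable_of_kernelPair sq
  have := isLocalAtTarget_fppf (@Flat : MorphismProperty Scheme.{u})
  have := isLocalAtTarget_fppf (@LocallyOfFinitePresentation : MorphismProperty Scheme.{u})
  have := isLocalAtTarget_fppf (@Surjective : MorphismProperty Scheme.{u})
  have hss : Surjective s.left := ⟨fun x => by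
    let l : U ⟶ R := sqO.lift (𝟙 U) (𝟙 U) rfl
    exact ⟨l.left x, by rw [← Scheme.Hom.comp_apply, ← Over.comp_left, sqO.lift_snd]; rfl⟩⟩
  have hpf := repWith_of_locallySurjective hr _ sq @Flat ((repWith_yon_map_iff _ _).2 ‹Flat s.left›)
  have hpl := repWith_of_locallySurjective hr _ sq @LocallyOfFinitePresentation
    ((repWith_yon_map_iff _ _).2 ‹LocallyOfFinitePresentation s.left›)
  have hps := repWith_of_locallySurjective hr _ sq @Surjective ((repWith_yon_map_iff _ _).2 hss)
  -- charts are locally of finite type over `S`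
  have hlft : LocP @LocallyOfFiniteType ι := by
    intro W V α β k hα hβ hw'
    haveI : LocallyOfFiniteType W.hom := by
      let W' := hα.rep.pullback p
      let q₁ : W' ⟶ U := hα.rep.snd p
      let q₂ : W' ⟶ W := hα.rep.fst' p
      have sq' := hα.rep.isPullback' p
      haveI : Etale q₁.left := hα.property_snd p
      haveI : Flat q₂.left := hpf.property α _ _ sq'.flip
      haveI : LocallyOfFinitePresentation q₂.left := hpl.property α _ _ sq'.flip
      haveI : Surjective q₂.left := hps.property α _ _ sq'.flip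
      haveI : LocallyOfFiniteType (q₂.left ≫ W.hom ≫ b) := by
        rw [Over.w_assoc q₂, ← Over.w_assoc q₁]
        exact inferInstanceAs (LocallyOfFiniteType (q₁.left ≫ h ≫ b))
      haveI := SrcDescent.locallyOfFiniteType_of_fppf_comp q₂.left (W.hom ≫ b)
      exact locallyOfFiniteType_of_comp W.hom b
    haveI : LocallyOfFiniteType (k.left ≫ V.hom) := by rw [Over.w k]; infer_instance
    exact locallyOfFiniteType_of_comp k.left V.hom
  obtain ⟨Q, ⟨e⟩⟩ := exists_iso_of_lqf_separated hF ι (locP_lqf_of_mono ι hlft) (isSeparatedMor_of_mono ι)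
  obtain ⟨u, hu⟩ := (yon Y).map_surjective (p ≫ e.inv)
  have hmap : ∀ (P : MorphismProperty Scheme.{u}) [P.IsStableUnderBaseChange] [P.RespectsIso],
      RepWith P p → P u.left := fun P _ _ hP => by
    refine (repWith_yon_map_iff P u).1 ?_
    rw [hu, (RepWith P).cancel_right_of_respectsIso]
    exact hP
  haveI : Flat u.left := hmap @Flat hpf
  haveI : LocallyOfFinitePresentation u.left := hmap @LocallyOfFinitePresentation hpl
  haveI : Surjective u.left := hmap @Surjective hps
  have hum : u.left ≫ Q.hom = h := Over.w u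
  haveI : Mono Q.hom := by
    have hT : IsTerminal ((yon Y).obj T) := Over.mkIdTerminal.isTerminalObj (yon Y) _
    let q : Q ⟶ T := Over.homMk Q.hom (Category.comp_id _)
    have : (yon Y).map q = e.hom ≫ ι := hT.hom_ext _ _
    haveI : Mono ((yon Y).map q) := by rw [this]; infer_instance
    haveI : Mono q := (yon Y).mono_of_mono_map inferInstance
    exact inferInstanceAs (Mono ((Over.forget Y).map q))
  haveI : LocallyOfFinitePresentation (u.left ≫ Q.hom ≫ b) := by rw [← Category.assoc, hum]; infer_instance
  haveI : Flat (u.left ≫ Q.hom ≫ b) := by rw [← Category.assoc, hum]; infer_instance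
  haveI := SrcDescent.locallyOfFinitePresentation_of_fppf_comp u.left (Q.hom ≫ b)
  haveI := GrpSchLib.RankOne.flat_of_comp u.left (Q.hom ≫ b)
  haveI : LocallyOfFiniteType Q.hom := locallyOfFiniteType_of_comp Q.hom b
  haveI : FormallyUnramified (Q.hom ≫ b) := by
    haveI := isLocallyNoetherian_pullback (S := S) (Q.hom ≫ b) (Q.hom ≫ b)
    haveI := isOpenImmersion_map b Q.hom Q.hom
    have e1 : pullback.diagonal (Q.hom ≫ b) = pullback.diagonal Q.hom ≫
        pullback.map Q.hom Q.hom (Q.hom ≫ b) (Q.hom ≫ b) (𝟙 _) (𝟙 _) b (by simp) (by simp) := by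
      apply pullback.hom_ext <;> simp
    haveI : IsOpenImmersion (pullback.diagonal (Q.hom ≫ b)) := by rw [e1]; infer_instance
    infer_instance
  exact ⟨Q.left, u.left, Q.hom, hum, inferInstance, inferInstance, Etale.of_formallyUnramified_of_flat _,
    inferInstance, inferInstance, inferInstance⟩

end Groth.Agent.EtQuot
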