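import Groth.Agent.EtQuot.EqLocus
import Groth.Agent.FrobSchLib.Basic
import Mathlib.AlgebraicGeometry.Morphisms.Etale
import Mathlib.AlgebraicGeometry.Morphisms.FlatMono

/-!
# Relatively perfect morphisms are formally unramified and etale morphisms are relatively perfect
-/

set_option autoImplicit false
set_option linter.style.haveILetI false

universe u

open CategoryTheory CategoryTheory.Limits AlgebraicGeometry

namespace Groth.Agent.EtQuot

theorem frob_Spec (p : ℕ) [Fact p.Prime] (R : CommRingCat.{u}) [FrobSch.IsCharP (Spec R) p] (h : (p : R) = 0) :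
    FrobSch.frob (Spec R) p = Spec.map (CommRingCat.ofHom (FrobSch.powHom p R h)) := by
  refine ext_of_isAffine (CommRingCat.hom_ext (RingHom.ext fun x => ?_))
  have hb := (ConcreteCategory.bijective_of_isIso (Scheme.ΓSpecIso R).hom).injective
  refine hb ?_
  rw [show (FrobSch.frob (Spec R) p).appTop.hom x = x ^ p from rfl, map_pow]
  exact ((congr($(Scheme.ΓSpecIso_naturality (CommRingCat.ofHom (FrobSch.powHom p R h))) x)).trans rfl).symm

/-- Relatively perfect morphisms are formally unramified. -/
theorem formallyUnramified_of_isIso_relFrob (p : ℕ) [Fact p.Prime] {Y S : Scheme.{u}} [FrobSch.IsCharP S p]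
    (b : Y ⟶ S) [IsIso (FrobSch.relFrob b p)] : FormallyUnramified b := by
  haveI : FrobSch.IsCharP Y p := FrobSch.IsCharP.of_hom b p
  refine FormallyUnramified.of_hom_ext b fun R R₀ φ hφ hker g₁ g₂ h₀ hb => ?_
  haveI : FrobSch.IsCharP (Spec R) p := FrobSch.IsCharP.of_hom g₁ p
  have hR : (p : R) = 0 := by
    have h := congrArg (Scheme.ΓSpecIso R).hom (FrobSch.IsCharP.natCast_eq_zero (X := Spec R) (p := p))
    rwa [map_natCast, map_zero] at h
  -- the Frobenius of `R` factors through `R₀`
  let F := FrobSch.powHom p R hR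
  have hle : RingHom.ker φ.hom ≤ RingHom.ker F := fun z hz => by
    rw [RingHom.mem_ker, FrobSch.powHom_apply]
    have h2 : z ^ 2 ∈ (⊥ : Ideal R) := hker ▸ Ideal.pow_mem_pow hz 2
    rw [show p = 2 + (p - 2) from (Nat.add_sub_of_le (Fact.out : p.Prime).two_le).symm, pow_add, Ideal.mem_bot.1 h2,
      zero_mul]
  let ψ : R₀ ⟶ R := CommRingCat.ofHom (φ.hom.liftOfSurjective hφ ⟨F, hle⟩)
  have hψ : φ ≫ ψ = CommRingCat.ofHom F :=
    CommRingCat.hom_ext (RingHom.ext fun z => RingHom.liftOfRightInverse_comp_apply φ.hom _ (Function.rightInverse_surjInv hφ) ⟨F, hle⟩ z)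
  have hF : FrobSch.frob (Spec R) p = Spec.map ψ ≫ Spec.map φ := by
    rw [frob_Spec p R hR, ← Spec.map_comp, hψ]
  have hfr : g₁ ≫ FrobSch.frob Y p = g₂ ≫ FrobSch.frob Y p := by
    rw [← FrobSch.frob_comp p g₁, ← FrobSch.frob_comp p g₂, hF, Category.assoc, Category.assoc, h₀]
  rw [← cancel_mono (FrobSch.relFrob b p)]
  apply pullback.hom_ext
  · simpa using hfr
  · simpa using hb

/-- Étale morphisms are relatively perfect. -/
theorem isIso_relFrob_of_etale (p : ℕ) [Fact p.Prime] {P S : Scheme.{u}} [FrobSch.IsCharP S p] (c : P ⟶ S) [Etale c] :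
    IsIso (FrobSch.relFrob c p) := by
  haveI : FrobSch.IsCharP P p := FrobSch.IsCharP.of_hom c p
  let r := FrobSch.relFrob c p
  haveI : Etale (pullback.snd c (FrobSch.frob S p)) :=
    MorphismProperty.IsStableUnderBaseChange.of_isPullback (P := @Etale) (IsPullback.of_hasPullback _ _) ‹_›
  haveI : Etale (r ≫ pullback.snd c (FrobSch.frob S p)) := by rw [FrobSch.relFrob_snd]; infer_instance
  haveI : Etale r := Etale.of_comp r (pullback.snd c (FrobSch.frob S p))
  haveI : UniversallyInjective r := Groth.Agent.FrobSchLib.universallyInjective_relFrob p c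
  haveI : Surjective (pullback.diagonal r) := (UniversallyInjective.iff_diagonal r).1 inferInstance
  haveI : IsIso (pullback.diagonal r) := by
    haveI : Epi (pullback.diagonal r).base := (TopCat.epi_iff_surjective _).2 (pullback.diagonal r).surjective
    exact IsOpenImmersion.isIso _
  haveI : Mono r := (pullback.isIso_diagonal_iff r).1 inferInstance
  haveI : IsOpenImmersion r := IsOpenImmersion.of_flat_of_mono r
  haveI : Epi r.base := (TopCat.epi_iff_surjective _).2 fun z => by
    obtain ⟨x, hx⟩ := (Groth.Agent.FrobSchLib.isUnivHomeo_relFrob p c _ _ _ (IsPullback.id_horiz r).flip).surjective z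
    exact ⟨x, hx⟩
  exact IsOpenImmersion.isIso r

end Groth.Agent.EtQuot
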